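import Cfsg.Agent.ClassicalMax.TPow.Basic
import Cfsg.Agent.Asch.FormSlots
import Cfsg.Agent.ClassicalMax.Transvection

/-!
An invertible matrix conjugating each slot algebra onto a slot algebra lies in the tensor wreath group.
-/

set_option autoImplicit false
set_option linter.unusedSectionVars false

namespace Cfsg.Agent.ClassicalMax.TPow

open Matrix Cfsg.Geo Cfsg.Agent.Classical Cfsg.Agent.ClassicalMax

variable {F : Type*} [Field F] {β κ : Type} [Fintype β] [DecidableEq β] [Fintype κ] [DecidableEq κ] {m t : ℕ}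

theorem eq_smul_one_of_commute [Nonempty κ] (C : Matrix (β → κ) (β → κ) F)
    (h : ∀ i A, C * sl i A = sl i A * C) : ∃ c : F, C = c • (1 : Matrix (β → κ) (β → κ) F) := by
  classical
  have key : ∀ i a b (x y : β → κ), (if a = x i then C (Function.update x i b) y else 0) =
      (if b = y i then C x (Function.update y i a) else 0) := fun i a b x y => by
    have h1 := congrFun (congrFun (h i (Matrix.single a b 1)) x) y
    rw [mul_sl, sl_mulVec] at h1
    simp only [Matrix.single_apply, ite_and, ite_mul, mul_ite, one_mul, mul_one, zero_mul, mul_zero,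
      Finset.sum_ite_eq, Finset.mem_univ, if_true] at h1
    rw [h1]
    split_ifs with ha <;> simp
  have hoff : ∀ x y, x ≠ y → C x y = 0 := fun x y hxy => by
    obtain ⟨i, hi⟩ := Function.ne_iff.1 hxy
    have := key i (x i) (x i) x y
    rwa [if_pos rfl, if_neg hi, Function.update_eq_self] at this
  have hstep : ∀ i b x, C (Function.update x i b) (Function.update x i b) = C x x := fun i b x => by
    have := key i (x i) b x (Function.update x i b)
    rwa [if_pos rfl, if_pos (Function.update_self i b x).symm, Function.update_idem, Function.update_eq_self] at this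
  have hdiag : ∀ (x y : β → κ) (s : Finset β), C (s.piecewise y x) (s.piecewise y x) = C x x := fun x y s => by
    induction s using Finset.induction_on with
    | empty => simp
    | insert i s _ ih => rw [Finset.piecewise_insert, hstep, ih]
  refine ⟨C (fun _ => Classical.arbitrary κ) (fun _ => Classical.arbitrary κ), Matrix.ext fun x y => ?_⟩
  rcases eq_or_ne x y with rfl | hxy
  · have := hdiag (fun _ => Classical.arbitrary κ) x Finset.univ
    rw [Finset.piecewise_univ] at this
    simp [this]
  · simp [Matrix.one_apply_ne hxy, hoff x y hxy]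

theorem slot_disjoint {i j : β} (hij : i ≠ j) {A B : Matrix κ κ F} (h : sl i A = sl j B) {a b : κ} (hab : a ≠ b) :
    A a b = 0 := by
  classical
  have h1 := congrFun (congrFun h (fun _ => a)) (Function.update (fun _ => a) i b)
  rw [sl_apply, if_pos fun l hl => by simp [hl], Function.update_self, sl_apply, if_neg] at h1
  · exact h1
  · intro h2
    have := h2 i hij
    rw [Function.update_self] at this
    exact hab this

theorem permM_mul_sl (σ : Equiv.Perm (Fin t)) (j : Fin t) (A : Matrix (Fin m) (Fin m) F) :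
    (Asch.permM σ : Matrix (Fin t → Fin m) (Fin t → Fin m) F) * sl j A = sl (σ j) A * Asch.permM σ := by
  ext x y
  rw [Matrix.mul_apply, Matrix.mul_apply, Finset.sum_eq_single (x ∘ σ), Finset.sum_eq_single (y ∘ σ.symm)]
  · have hy : y = (y ∘ σ.symm) ∘ σ := by funext l; simp
    simp only [Asch.permM, Matrix.of_apply, if_pos hy, if_true, one_mul, mul_one, sl_apply]
    simp only [Function.comp_apply, Equiv.symm_apply_apply]
    refine if_congr ⟨fun h l hl => ?_, fun h l hl => ?_⟩ rfl rfl
    · have := h (σ.symm l) fun e => hl (by rw [← e, Equiv.apply_symm_apply])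
      rwa [Equiv.apply_symm_apply] at this
    · have := h (σ l) (σ.injective.ne hl)
      rwa [Equiv.symm_apply_apply] at this
  · intro z _ hz
    simp only [Asch.permM, Matrix.of_apply]
    rw [if_neg, mul_zero]
    intro e
    exact hz (by funext l; rw [e]; simp)
  · exact fun h => absurd (Finset.mem_univ _) h
  · intro z _ hz
    simp only [Asch.permM, Matrix.of_apply]
    rw [if_neg hz, zero_mul]
  · exact fun h => absurd (Finset.mem_univ _) h

theorem permU_conj (σ : Equiv.Perm (Fin t)) (j : Fin t) (A : Matrix (Fin m) (Fin m) F) :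
    ((Asch.permU σ : GL (Fin t → Fin m) F) : Matrix (Fin t → Fin m) (Fin t → Fin m) F) * sl j A *
      (((Asch.permU σ)⁻¹ : GL (Fin t → Fin m) F) : Matrix (Fin t → Fin m) (Fin t → Fin m) F) = sl (σ j) A := by
  show Asch.permM σ * sl j A * _ = _
  rw [permM_mul_sl, mul_assoc]
  show sl (σ j) A * (((Asch.permU σ : GL (Fin t → Fin m) F) : Matrix (Fin t → Fin m) (Fin t → Fin m) F) *
    (((Asch.permU σ)⁻¹ : GL (Fin t → Fin m) F) : Matrix (Fin t → Fin m) (Fin t → Fin m) F)) = _
  rw [← Units.val_mul, mul_inv_cancel, Units.val_one, mul_one]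

theorem mem_wreath (hm : 2 ≤ m) (ht : 0 < t) {g : GL (Fin t → Fin m) F} (π : Fin t → Fin t)
    (h : ∀ j (A : Matrix (Fin m) (Fin m) F), ∃ B : Matrix (Fin m) (Fin m) F,
      (g : Matrix (Fin t → Fin m) (Fin t → Fin m) F) * sl j A = sl (π j) B * (g : Matrix (Fin t → Fin m) (Fin t → Fin m) F)) :
    g ∈ tensorWreathStandard m t F := by
  classical
  haveI : Nonempty (Fin m) := ⟨⟨0, by omega⟩⟩
  set G : Matrix (Fin t → Fin m) (Fin t → Fin m) F := (g : Matrix (Fin t → Fin m) (Fin t → Fin m) F) with hG
  choose θ hθ using h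
  have cancel : ∀ {X Y : Matrix (Fin t → Fin m) (Fin t → Fin m) F}, X * G = Y * G → X = Y :=
    fun {X Y} e => g.isUnit.mul_left_injective e
  have hinj : ∀ j, Function.Injective (θ j) := fun j A B e => by
    have h1 := hθ j A
    rw [e, ← hθ j B] at h1
    exact sl_injective j (g.isUnit.mul_right_injective h1)
  let f : ∀ j, Matrix (Fin m) (Fin m) F →ₐ[F] Matrix (Fin m) (Fin m) F := fun j =>
    AlgHom.ofLinearMap
      { toFun := θ j
        map_add' := fun A B => sl_injective (π j) (cancel (by
          rw [← hθ, sl_add, sl_add, mul_add, add_mul, hθ, hθ]))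
        map_smul' := fun c A => sl_injective (π j) (cancel (by
          rw [← hθ, sl_smul, RingHom.id_apply, sl_smul, mul_smul_comm, hθ, smul_mul_assoc])) }
      (sl_injective (π j) (cancel (by
        show sl (π j) (θ j 1) * G = sl (π j) 1 * G
        rw [← hθ, sl_one, sl_one, mul_one, one_mul])))
      (fun A B => sl_injective (π j) (cancel (by
        show sl (π j) (θ j (A * B)) * G = sl (π j) (θ j A * θ j B) * G
        rw [← hθ, ← sl_mul, ← sl_mul, ← mul_assoc, hθ, mul_assoc, hθ, mul_assoc])))
  have hbij : ∀ j, Function.Bijective (f j) := fun j =>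
    ⟨hinj j, LinearMap.injective_iff_surjective.1 (show Function.Injective (f j).toLinearMap from hinj j)⟩
  have hπ : Function.Injective π := fun i j e => by
    by_contra hij
    obtain ⟨A, hA⟩ := (hbij i).2 (θ j (Matrix.single ⟨0, by omega⟩ ⟨1, by omega⟩ 1))
    have hA' : θ i A = θ j (Matrix.single ⟨0, by omega⟩ ⟨1, by omega⟩ 1) := hA
    have h1 : sl j (Matrix.single (⟨0, by omega⟩ : Fin m) (⟨1, by omega⟩ : Fin m) (1 : F)) = sl i A :=
      g.isUnit.mul_right_injective (show G * _ = G * _ by rw [hθ, hθ, hA', e])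
    have h2 := slot_disjoint (Ne.symm hij) h1 (a := ⟨0, by omega⟩) (b := ⟨1, by omega⟩) (by simp)
    simp at h2
  let σ : Equiv.Perm (Fin t) := Equiv.ofBijective π (Finite.injective_iff_bijective.1 hπ)
  have hU : ∀ j, ∃ U : GL (Fin m) F, ∀ A, θ j A * (U : Matrix (Fin m) (Fin m) F) = (U : Matrix (Fin m) (Fin m) F) * A := fun j => by
    obtain ⟨T, hT⟩ := AlgEquiv.eq_linearEquivConjAlgEquiv
      ((Matrix.toLinAlgEquiv' (R := F) (n := Fin m)).symm.trans
        ((AlgEquiv.ofBijective (f j) (hbij j)).trans (Matrix.toLinAlgEquiv' (R := F) (n := Fin m))))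
    refine ⟨(glEquiv (Fin m) F).symm T, fun A => Matrix.toLinAlgEquiv'.injective (LinearMap.ext fun x => ?_)⟩
    have h1 := LinearMap.congr_fun (AlgEquiv.congr_fun hT (Matrix.toLinAlgEquiv' A)) (T x)
    simp [LinearEquiv.conjAlgEquiv_apply, f, symm_mulVec, ← Matrix.mulVec_mulVec] at h1 ⊢
    exact h1
  choose U hU using hU
  let gs : Fin t → GL (Fin m) F := fun j => U (σ.symm j)
  let K : GL (Fin t → Fin m) F := Asch.pureU gs * Asch.permU σ
  have hKm : K ∈ tensorWreathStandard m t F := Asch.pureU_mul_permU_mem gs σ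
  set KM : Matrix (Fin t → Fin m) (Fin t → Fin m) F := (K : Matrix (Fin t → Fin m) (Fin t → Fin m) F) with hKM
  have hK : ∀ j A, KM * sl j A = sl (π j) (θ j A) * KM := fun j A => by
    have hKe : KM = tens (fun l => (gs l : Matrix (Fin m) (Fin m) F)) * Asch.permM σ := rfl
    have e1 : (Asch.permM σ : Matrix (Fin t → Fin m) (Fin t → Fin m) F) * sl j A = sl (π j) A * Asch.permM σ :=
      permM_mul_sl σ j A
    rw [hKe, mul_assoc, e1, ← mul_assoc, ← mul_assoc]
    congr 1
    rw [sl, sl, tens_mul, tens_mul]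
    congr 1
    funext l
    rcases eq_or_ne l (π j) with rfl | hl
    · simp only [Pi.mul_apply, Function.update_self, gs]
      rw [show σ.symm (π j) = j from σ.symm_apply_apply j]
      exact (hU j A).symm
    · simp [Function.update_of_ne hl]
  obtain ⟨c, hc⟩ := eq_smul_one_of_commute ((K⁻¹ : GL (Fin t → Fin m) F).val * G) fun j A => by
    rw [mul_assoc, hθ, ← mul_assoc, ← mul_assoc (sl j A)]
    congr 1
    apply K.isUnit.mul_right_injective
    show KM * (_ * _) = KM * (_ * _)
    rw [← mul_assoc, ← mul_assoc, hK, mul_assoc _ KM, ← Units.val_mul, mul_inv_cancel, Units.val_one, one_mul, mul_one]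
  have hgK : g = K * (K⁻¹ * g) := (mul_inv_cancel_left K g).symm
  rw [hgK]
  refine mul_mem hKm ?_
  have hc0 : c ≠ 0 := fun e => by
    rw [e, zero_smul] at hc
    exact (K⁻¹ * g).isUnit.ne_zero (by rw [Units.val_mul]; exact hc)
  let cs : Fin t → GL (Fin m) F :=
    Function.update 1 ⟨0, ht⟩ (Units.map (algebraMap F (Matrix (Fin m) (Fin m) F)).toMonoidHom (Units.mk0 c hc0))
  refine Subgroup.subset_closure (Or.inl ⟨cs, fun x y => ?_⟩)
  rw [Units.val_mul, hc]
  have h1 : (fun i => (cs i : Matrix (Fin m) (Fin m) F)) = Function.update (1 : Fin t → Matrix (Fin m) (Fin m) F) ⟨0, ht⟩ (c • 1) := by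
    funext i
    rcases eq_or_ne i ⟨0, ht⟩ with rfl | hi
    · simp [cs, Algebra.algebraMap_eq_smul_one]
    · simp [cs, hi]
  have h2 := congrFun (congrFun (congrArg (fun T => tens T) h1) x) y
  rw [show tens (Function.update (1 : Fin t → Matrix (Fin m) (Fin m) F) ⟨0, ht⟩ (c • 1)) = c • 1 by
    rw [← sl, sl_smul, sl_one]] at h2
  exact h2.symm

end Cfsg.Agent.ClassicalMax.TPow
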