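import Cfsg.Agent.ClassicalMax.TPow.Basic

/-!
Matrices between the whole tensor power and the slots outside a map, and factors in one slot.
-/

set_option autoImplicit false
set_option linter.unusedSectionVars false

namespace Cfsg.Agent.ClassicalMax.TPow

open Matrix
open scoped Kronecker

variable {F : Type*} [Field F] {α β κ : Type} [Fintype α] [DecidableEq α] [Fintype β] [DecidableEq β] [Fintype κ]
  [DecidableEq κ] {e : α → β} (he : Function.Injective e)

/-- the inclusion `w ↦ f ⊗ w` -/
noncomputable def inM (f : (α → κ) → F) : Matrix (β → κ) (Rest e → κ) F :=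
  Matrix.of fun x y => if (split he x).2 = y then f (split he x).1 else 0

/-- the contraction `f' ⊗ w ↦ b(f, f') w` -/
noncomputable def outM (G : Matrix (α → κ) (α → κ) F) (f : (α → κ) → F) : Matrix (Rest e → κ) (β → κ) F :=
  Matrix.of fun y x => if (split he x).2 = y then (f ᵥ* G) (split he x).1 else 0

variable {he}

theorem outM_mul_inM (G : Matrix (α → κ) (α → κ) F) (f g : (α → κ) → F) :
    outM he G g * inM he f = bf G g f • (1 : Matrix (Rest e → κ) (Rest e → κ) F) := by
  ext y y'
  rw [Matrix.mul_apply, ← Equiv.sum_comp (split he).symm, Fintype.sum_prod_type]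
  simp only [outM, inM, Matrix.of_apply, Equiv.apply_symm_apply, ite_mul, zero_mul, mul_ite, mul_zero,
    Finset.sum_ite_eq', Finset.mem_univ, if_true, Matrix.smul_apply, Matrix.one_apply, smul_eq_mul, mul_one]
  by_cases h : y = y'
  · simp only [h, if_true, bf, dotProduct_mulVec]
    rfl
  · simp [h, eq_comm]

theorem inM_mul_outM (G : Matrix (α → κ) (α → κ) F) (f g : (α → κ) → F)
    (N : Matrix (Rest e → κ) (Rest e → κ) F) : inM he f * N * outM he G g = emb he (rk G f g) N := by
  ext x x'
  simp only [Matrix.mul_apply, inM, outM, Matrix.of_apply, ite_mul, zero_mul, mul_ite, mul_zero, Finset.sum_ite_eq,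
    Finset.mem_univ, if_true, emb, Matrix.submatrix_apply, Matrix.kroneckerMap_apply, rk, vecMulVec_apply]
  ring

theorem mul_inM_apply {ν : Type} (M : Matrix ν (β → κ) F) (f : (α → κ) → F) (x : ν) (y : Rest e → κ) :
    (M * inM he f) x y = ∑ a, M x ((split he).symm (a, y)) * f a := by
  rw [Matrix.mul_apply, ← Equiv.sum_comp (split he).symm, Fintype.sum_prod_type]
  simp only [inM, Matrix.of_apply, Equiv.apply_symm_apply, mul_ite, mul_zero, Finset.sum_ite_eq', Finset.mem_univ,
    if_true]

theorem outM_mul_apply {ν : Type} (G : Matrix (α → κ) (α → κ) F) (g : (α → κ) → F) (M : Matrix (β → κ) ν F)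
    (y : Rest e → κ) (z : ν) : (outM he G g * M) y z = ∑ a, (g ᵥ* G) a * M ((split he).symm (a, y)) z := by
  rw [Matrix.mul_apply, ← Equiv.sum_comp (split he).symm, Fintype.sum_prod_type]
  simp only [outM, Matrix.of_apply, Equiv.apply_symm_apply, ite_mul, zero_mul, Finset.sum_ite_eq', Finset.mem_univ,
    if_true]

theorem inM_transpose_mul (GA : Matrix (α → κ) (α → κ) F) (GR : Matrix (Rest e → κ) (Rest e → κ) F)
    (f : (α → κ) → F) : (inM he f)ᵀ * emb he GA GR = GR * outM he GA f := by
  ext y x
  rw [Matrix.mul_apply, Matrix.mul_apply, ← Equiv.sum_comp (split he).symm, Fintype.sum_prod_type]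
  simp only [inM, outM, emb, Matrix.transpose_apply, Matrix.of_apply, Matrix.submatrix_apply, Matrix.kroneckerMap_apply,
    Equiv.apply_symm_apply, ite_mul, zero_mul, mul_ite, mul_zero, Finset.sum_ite_eq, Finset.sum_ite_eq',
    Finset.mem_univ, if_true, vecMul, dotProduct, Finset.mul_sum]
  exact Finset.sum_congr rfl fun a _ => by ring

theorem inM_injective {f : (α → κ) → F} (hf : f ≠ 0) :
    Function.Injective fun w : (Rest e → κ) → F => inM he f *ᵥ w := by
  intro w w' h
  obtain ⟨a, ha⟩ := Function.ne_iff.1 hf
  funext y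
  have h1 := congrFun h ((split he).symm (a, y))
  simp only [inM, mulVec, dotProduct, Matrix.of_apply, Equiv.apply_symm_apply, ite_mul, zero_mul, Finset.sum_ite_eq,
    Finset.mem_univ, if_true] at h1
  exact mul_left_cancel₀ ha h1

/-- only a scalar is killed by both sides -/
theorem inM_outM_scalar {G : Matrix (α → κ) (α → κ) F} (hG : IsUnit G.det) {f g : (α → κ) → F} (hf : f ≠ 0)
    (hg : g ≠ 0) {N : Matrix (Rest e → κ) (Rest e → κ) F} (h : inM he f * N * outM he G g = 0) : N = 0 := by
  rw [inM_mul_outM] at h
  have hr := rk_eq_zero G hG hf hg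
  obtain ⟨a, b, hab⟩ : ∃ a b, rk G f g a b ≠ 0 := by
    by_contra! h0
    exact hr (Matrix.ext h0)
  ext y y'
  have h1 := congrFun (congrFun h ((split he).symm (a, y))) ((split he).symm (b, y'))
  simp only [emb, Matrix.submatrix_apply, Equiv.apply_symm_apply, Matrix.kroneckerMap_apply, Matrix.zero_apply] at h1
  exact (mul_eq_zero.1 h1).resolve_left hab

/-! ### factors in one slot -/

/-- the matrix of the values of a functional on the slices of one slot -/
def lift (i : β) (φ : Matrix κ κ F →ₗ[F] F) (R : Matrix (β → κ) (β → κ) F) : Matrix (β → κ) (β → κ) F :=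
  Matrix.of fun x y => if x i = y i then φ (Matrix.of fun a b => R (Function.update x i a) (Function.update y i b))
    else 0

/-- the slices of one slot -/
def slice' (R : Matrix (β → κ) (β → κ) F) (i : β) (x y : β → κ) : Matrix κ κ F :=
  Matrix.of fun a b => R (Function.update x i a) (Function.update y i b)

theorem eq_sl_mul_lift (i : β) {P : Matrix κ κ F} (φ : Matrix κ κ F →ₗ[F] F) {R Z : Matrix (β → κ) (β → κ) F}
    (h : ∀ x y, slice' Z i x y = φ (slice' R i x y) • P) : Z = sl i P * lift i φ R := by
  ext x y
  have h1 := congrFun (congrFun (h x y) (x i)) (y i)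
  simp only [slice', Matrix.of_apply, Function.update_eq_self] at h1
  rw [h1, sl_mulVec]
  simp only [lift, Matrix.of_apply, Function.update_self, mul_ite, mul_zero, Finset.sum_ite_eq', Finset.mem_univ,
    if_true, Function.update_idem, Matrix.smul_apply, smul_eq_mul]
  exact mul_comm _ _

theorem lift_commute (i : β) (φ : Matrix κ κ F →ₗ[F] F) (R : Matrix (β → κ) (β → κ) F) (A : Matrix κ κ F) :
    Commute (lift i φ R) (sl i A) := by
  show _ = _
  ext x y
  rw [mul_sl, sl_mulVec]
  simp only [lift, Matrix.of_apply, Function.update_self, ite_mul, mul_ite, mul_zero, zero_mul,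
    Finset.sum_ite_eq, Finset.sum_ite_eq', Finset.mem_univ, if_true, Function.update_idem]
  exact mul_comm _ _

theorem eq_zero_of_sl_mul {i : β} {P : Matrix κ κ F} (hP : P ≠ 0) {Z : Matrix (β → κ) (β → κ) F}
    (hZ : ∀ A, Commute Z (sl i A)) (h : sl i P * Z = 0) : Z = 0 := by
  classical
  obtain ⟨a, b, hab⟩ : ∃ a b, P a b ≠ 0 := by
    by_contra! h0
    exact hP (Matrix.ext h0)
  have key : ∀ x y c d, (if c = x i then Z (Function.update x i d) y else 0) =
      (if d = y i then Z x (Function.update y i c) else 0) := fun x y c d => by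
    have h1 := congrFun (congrFun (hZ (Matrix.single c d 1)).eq x) y
    rw [mul_sl, sl_mulVec] at h1
    simp only [Matrix.single_apply, ite_and, ite_mul, mul_ite, one_mul, mul_one, zero_mul, mul_zero,
      Finset.sum_ite_eq, Finset.mem_univ, if_true] at h1
    rw [h1]
    split_ifs with hc <;> simp
  ext x y
  rw [Matrix.zero_apply]
  rcases eq_or_ne (x i) (y i) with hxy | hxy
  swap
  · have := key x y (x i) (x i)
    rwa [if_pos rfl, if_neg hxy, Function.update_eq_self] at this
  have hoff : ∀ c, c ≠ b → Z (Function.update x i c) (Function.update y i b) = 0 := fun c hc => by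
    have := key (Function.update x i c) (Function.update y i b) c c
    rwa [Function.update_self, if_pos rfl, Function.update_self, if_neg hc, Function.update_idem] at this
  have h1 := congrFun (congrFun h (Function.update x i a)) (Function.update y i b)
  rw [sl_mulVec, Finset.sum_eq_single b (fun c _ hc => by
      rw [Function.update_idem, hoff c hc, mul_zero]) (fun hb => absurd (Finset.mem_univ b) hb),
    Function.update_idem, Function.update_self, Matrix.zero_apply] at h1
  have h2 := (mul_eq_zero.1 h1).resolve_left hab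
  have := key x (Function.update y i b) (x i) b
  rw [if_pos rfl, Function.update_self, if_pos rfl, h2, Function.update_idem, hxy, Function.update_eq_self] at this
  exact this.symm

theorem slice'_sl_mul (i : β) (A : Matrix κ κ F) (R : Matrix (β → κ) (β → κ) F) (x y : β → κ) :
    slice' (sl i A * R) i x y = A * slice' R i x y := by
  ext a b
  rw [slice', Matrix.of_apply, sl_mulVec, Matrix.mul_apply]
  simp only [slice', Matrix.of_apply, Function.update_self, Function.update_idem]

theorem slice'_mul_sl (i : β) (A : Matrix κ κ F) (R : Matrix (β → κ) (β → κ) F) (x y : β → κ) :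
    slice' (R * sl i A) i x y = slice' R i x y * A := by
  ext a b
  rw [slice', Matrix.of_apply, mul_sl, Matrix.mul_apply]
  simp only [slice', Matrix.of_apply, Function.update_self, Function.update_idem]

theorem commute_of_slice_scalar (i : β) {R : Matrix (β → κ) (β → κ) F}
    (h : ∀ x y, ∃ c : F, slice' R i x y = c • (1 : Matrix κ κ F)) (A : Matrix κ κ F) : Commute R (sl i A) := by
  show _ = _
  ext x y
  have e : ∀ Z : Matrix (β → κ) (β → κ) F, Z x y = slice' Z i x y (x i) (y i) := fun Z => by simp [slice']
  obtain ⟨c, hc⟩ := h x y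
  rw [e (R * _), e (_ * R), slice'_mul_sl, slice'_sl_mul, hc, smul_mul_assoc, mul_smul_comm, one_mul, mul_one]

end Cfsg.Agent.ClassicalMax.TPow
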