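import Cfsg.Agent.ClassicalMax.TPow.Basic

/-!
A skew operator of a tensor power of a symplectic form whose contractions with a vector in each slot are scalar is a
sum of slot operators.
-/

set_option autoImplicit false
set_option linter.unusedSectionVars false

namespace Cfsg.Agent.ClassicalMax.TPow

open Matrix

variable {F : Type*} [Field F] {β κ : Type} [Fintype β] [DecidableEq β] [Fintype κ] [DecidableEq κ]
  {J : Matrix κ κ F}

/-- the adjoint of the form -/
noncomputable def adjJ (J : Matrix κ κ F) (S : Matrix κ κ F) : Matrix κ κ F := J⁻¹ * Sᵀ * J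

theorem adjJ_adjJ (hJT : Jᵀ = -J) (hJ : IsUnit J.det) (S : Matrix κ κ F) : adjJ J (adjJ J S) = S := by
  have e : (J⁻¹)ᵀ = -J⁻¹ := by
    rw [Matrix.transpose_nonsing_inv, hJT]
    refine Matrix.inv_eq_right_inv ?_
    rw [neg_mul_neg, Matrix.mul_nonsing_inv J hJ]
  rw [adjJ, adjJ, transpose_mul, transpose_mul, transpose_transpose, hJT, e]
  simp only [neg_mul, mul_neg, neg_neg, ← mul_assoc, nonsing_inv_mul J hJ, one_mul]
  rw [mul_assoc, nonsing_inv_mul J hJ, mul_one]

/-- exchanging the entries of a set of slots -/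
def pT (s : Finset β) (Y : Matrix (β → κ) (β → κ) F) : Matrix (β → κ) (β → κ) F :=
  Matrix.of fun x y => Y (s.piecewise y x) (s.piecewise x y)

theorem pT_single (i : β) (Y : Matrix (β → κ) (β → κ) F) (x y : β → κ) :
    pT {i} Y x y = Y (Function.update x i (y i)) (Function.update y i (x i)) := by
  simp [pT, Finset.piecewise_singleton]

theorem pT_insert {i : β} {s : Finset β} (hi : i ∉ s) (Y : Matrix (β → κ) (β → κ) F) :
    pT (insert i s) Y = pT {i} (pT s Y) := by
  ext x y
  rw [pT_single]
  simp only [pT, Matrix.of_apply]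
  congr 1 <;> funext j <;> rcases eq_or_ne j i with rfl | hj <;> simp [Finset.piecewise, hi, *]

theorem pT_univ (Y : Matrix (β → κ) (β → κ) F) : pT Finset.univ Y = Yᵀ := by
  ext x y
  simp [pT]

theorem pT_sl_of_ne {i j : β} (hij : j ≠ i) (A : Matrix κ κ F) : pT {i} (sl j A) = sl j A := by
  ext x y
  rw [pT_single, sl_apply, sl_apply, Function.update_of_ne hij, Function.update_of_ne hij]
  refine if_congr (forall_congr' fun l => imp_congr_right fun _ => ?_) rfl rfl
  rcases eq_or_ne l i with rfl | h
  · simp only [Function.update_self]; exact eq_comm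
  · simp [h]

theorem pT_sub (s : Finset β) (Y Z : Matrix (β → κ) (β → κ) F) : pT s (Y - Z) = pT s Y - pT s Z := rfl

/-- entries of a product with a family that is trivial in one slot -/
theorem tens_update_apply {A : β → Matrix κ κ F} {i : β} (hA : A i = 1) (x z : β → κ) :
    tens A x z = if x i = z i then ∏ l ∈ Finset.univ.erase i, A l (x l) (z l) else 0 := by
  rw [tens_apply, ← Finset.mul_prod_erase _ _ (Finset.mem_univ i), hA, Matrix.one_apply, ite_mul, one_mul, zero_mul]

/-- swap of the distinguished coordinate -/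
def swapAt (i : β) : Equiv.Perm ((β → κ) × (β → κ)) where
  toFun p := (Function.update p.1 i (p.2 i), Function.update p.2 i (p.1 i))
  invFun p := (Function.update p.1 i (p.2 i), Function.update p.2 i (p.1 i))
  left_inv p := by simp
  right_inv p := by simp

theorem pT_tens_mul {A B : β → Matrix κ κ F} {i : β} (hA : A i = 1) (hB : B i = 1)
    (Y : Matrix (β → κ) (β → κ) F) : pT {i} (tens A * Y * tens B) = tens A * pT {i} Y * tens B := by
  ext x y
  rw [pT_single]
  simp only [Matrix.mul_apply, Finset.sum_mul, ← Fintype.sum_prod_type']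
  refine Fintype.sum_equiv (Equiv.prodComm _ _ |>.trans ((swapAt i).trans (Equiv.prodComm _ _))) _ _ fun p => ?_
  obtain ⟨z, w⟩ := p
  show _ = tens A x _ * pT {i} Y _ _ * tens B _ y
  simp only [Equiv.trans_apply, Equiv.prodComm_apply, Prod.swap_prod_mk, swapAt, Equiv.coe_fn_mk, Prod.fst, Prod.snd,
    pT_single, Function.update_self, Function.update_idem, Function.update_eq_self, tens_update_apply hA,
    tens_update_apply hB]
  have e : ∀ (C : β → Matrix κ κ F) (a b : β → κ) (c d : κ), (∏ l ∈ Finset.univ.erase i,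
      C l (Function.update a i c l) (Function.update b i d l)) = ∏ l ∈ Finset.univ.erase i, C l (a l) (b l) :=
    fun C a b c d => Finset.prod_congr rfl fun l hl => by
      rw [Function.update_of_ne (Finset.ne_of_mem_erase hl), Function.update_of_ne (Finset.ne_of_mem_erase hl)]
  have e1 : ∀ (C : β → Matrix κ κ F) (a b : β → κ) (d : κ), (∏ l ∈ Finset.univ.erase i,
      C l (a l) (Function.update b i d l)) = ∏ l ∈ Finset.univ.erase i, C l (a l) (b l) :=
    fun C a b d => Finset.prod_congr rfl fun l hl => by rw [Function.update_of_ne (Finset.ne_of_mem_erase hl)]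
  have e2 : ∀ (C : β → Matrix κ κ F) (a b : β → κ) (c : κ), (∏ l ∈ Finset.univ.erase i,
      C l (Function.update a i c l) (b l)) = ∏ l ∈ Finset.univ.erase i, C l (a l) (b l) :=
    fun C a b c => Finset.prod_congr rfl fun l hl => by rw [Function.update_of_ne (Finset.ne_of_mem_erase hl)]
  simp only [e1, e2]
  simp only [eq_comm (a := z i), eq_comm (a := w i)]
  split_ifs <;> simp

/-- the partial adjoint on a set of slots -/
noncomputable def pA (J : Matrix κ κ F) (s : Finset β) (Y : Matrix (β → κ) (β → κ) F) :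
    Matrix (β → κ) (β → κ) F :=
  tens (s.piecewise (fun _ => J⁻¹) 1) * pT s Y * tens (s.piecewise (fun _ => J) 1)

theorem pA_insert {i : β} {s : Finset β} (hi : i ∉ s) (Y : Matrix (β → κ) (β → κ) F) :
    pA J (insert i s) Y = pA J {i} (pA J s Y) := by
  rw [pA, pA, pA, pT_insert hi, pT_tens_mul (A := s.piecewise (fun _ => J⁻¹) 1) (B := s.piecewise (fun _ => J) 1)
    (Finset.piecewise_eq_of_notMem _ _ _ hi) (Finset.piecewise_eq_of_notMem _ _ _ hi), ← mul_assoc, ← mul_assoc, tens_mul, mul_assoc _ (tens _) (tens _),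
    tens_mul]
  congr 3 <;> funext j <;> rcases eq_or_ne j i with rfl | hj <;>
    by_cases hjs : j ∈ s <;> simp_all [Finset.piecewise]

theorem pA_empty (Y : Matrix (β → κ) (β → κ) F) : pA J ∅ Y = Y := by
  rw [pA, Finset.piecewise_empty, Finset.piecewise_empty, tens_one, one_mul, mul_one]
  ext x y
  simp [pT]

theorem pA_zero (s : Finset β) : pA J s (0 : Matrix (β → κ) (β → κ) F) = 0 := by
  rw [pA, show pT s (0 : Matrix (β → κ) (β → κ) F) = 0 from rfl, mul_zero, zero_mul]

theorem pA_sub (s : Finset β) (Y Z : Matrix (β → κ) (β → κ) F) : pA J s (Y - Z) = pA J s Y - pA J s Z := by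
  rw [pA, pA, pA, pT_sub, mul_sub, sub_mul]

theorem pA_single (i : β) (Y : Matrix (β → κ) (β → κ) F) : pA J {i} Y = sl i J⁻¹ * pT {i} Y * sl i J := by
  rw [pA, Finset.piecewise_singleton, Finset.piecewise_singleton]
  rfl

theorem pA_sl_of_ne (hJ : IsUnit J.det) {i j : β} (hij : j ≠ i) (A : Matrix κ κ F) : pA J {i} (sl j A) = sl j A := by
  rw [pA_single, pT_sl_of_ne hij, mul_assoc, ← (sl_commute hij.symm J A).eq, ← mul_assoc, sl_mul,
    nonsing_inv_mul J hJ, sl_one, one_mul]

/-- the matrix of one slot at two positions of the others -/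
def slice (Y : Matrix (β → κ) (β → κ) F) (i : β) (x y : β → κ) : Matrix κ κ F :=
  Matrix.of fun a b => Y (Function.update x i a) (Function.update y i b)

theorem slice_pA (i : β) (Y : Matrix (β → κ) (β → κ) F) (x y : β → κ) :
    slice (pA J {i} Y) i x y = adjJ J (slice Y i x y) := by
  ext a b
  rw [slice, Matrix.of_apply, pA_single, mul_sl, adjJ, Matrix.mul_apply]
  simp only [sl_mulVec, pT_single, Function.update_self, Function.update_idem]
  rfl

variable [Finite F]

theorem quad_zero_adj (h2 : (2 : F) ≠ 0) (hJT : Jᵀ = -J) (hJ : IsUnit J.det) {S : Matrix κ κ F}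
    (h : ∀ u, bf J u (S *ᵥ u) = 0) : adjJ J S = S := by
  have h' : ∀ u, u ⬝ᵥ (J * S) *ᵥ u = 0 := fun u => by rw [← mulVec_mulVec]; exact h u
  have hd : ∀ a, (J * S) a a = 0 := fun a => by
    have := h' (Pi.single a 1)
    simpa using this
  have e : (J * S)ᵀ = -(J * S) := by
    ext a b
    have := h' (Pi.single a 1 + Pi.single b 1)
    simp only [mulVec_add, add_dotProduct, dotProduct_add, mulVec_single_one, single_one_dotProduct, col_apply,
      hd] at this
    rw [transpose_apply, neg_apply]
    linear_combination this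
  rw [transpose_mul, hJT, mul_neg, neg_inj] at e
  rw [adjJ, mul_assoc, e, ← mul_assoc, nonsing_inv_mul J hJ, one_mul]

/-- scalar contractions in every slot make a skew operator a sum of slot operators -/
theorem exists_sum_slots [Nonempty κ] (h2 : (2 : F) ≠ 0) (hJT : Jᵀ = -J) (hJ : IsUnit J.det)
    {Y : Matrix (β → κ) (β → κ) F} (hY : Yᵀ * tens (fun _ => J) = -(tens (fun _ => J) * Y))
    (hblk : ∀ i x y u, bf J u (slice Y i x y *ᵥ u) =
      if ∀ j, j ≠ i → x j = y j then bf J u (slice Y i (fun _ => Classical.arbitrary κ) (fun _ => Classical.arbitrary κ) *ᵥ u) else 0) :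
    ∃ s : β → Matrix κ κ F, (∀ i, adjJ J (s i) = -s i) ∧ Y = ∑ i, sl i (s i) := by
  classical
  set z : β → κ := fun _ => Classical.arbitrary κ with hz
  let D : β → Matrix κ κ F := fun i => slice Y i z z - adjJ J (slice Y i z z)
  have hadd : ∀ A B : Matrix κ κ F, adjJ J (A - B) = adjJ J A - adjJ J B := fun A B => by
    rw [adjJ, adjJ, adjJ, transpose_sub, mul_sub, sub_mul]
  have hD : ∀ i, Y - pA J {i} Y = sl i (D i) := fun i => by
    ext x y
    have e : (Y - pA J {i} Y) x y = (slice Y i x y - adjJ J (slice Y i x y)) (x i) (y i) := by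
      rw [← slice_pA]
      simp [slice, Function.update_eq_self]
    rw [e, sl_apply]
    split_ifs with hxy
    · have h1 : adjJ J (slice Y i x y - slice Y i z z) = slice Y i x y - slice Y i z z :=
        quad_zero_adj h2 hJT hJ fun u => by
          rw [sub_mulVec, sub_eq_add_neg, bf_add_right, ← neg_one_smul F (slice Y i z z *ᵥ u), bf_smul_right,
            hblk i x y u, if_pos hxy]
          ring
      rw [hadd] at h1
      have h3 : slice Y i x y - adjJ J (slice Y i x y) = D i := by
        show _ = slice Y i z z - adjJ J (slice Y i z z)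
        rw [sub_eq_sub_iff_sub_eq_sub]
        exact h1.symm
      rw [h3]
    · rw [quad_zero_adj h2 hJT hJ fun u => by rw [hblk i x y u, if_neg hxy], sub_self, Matrix.zero_apply]
  have hsum : ∀ s : Finset β, pA J s Y = Y - ∑ i ∈ s, sl i (D i) := fun s => by
    induction s using Finset.induction_on with
    | empty => simp [pA_empty]
    | insert i s hi ih =>
      have e : ∀ s' : Finset β, i ∉ s' → pA J {i} (∑ j ∈ s', sl j (D j)) = ∑ j ∈ s', sl j (D j) := fun s' h' => by
        induction s' using Finset.induction_on with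
        | empty => simp [pA_zero]
        | insert j s' hj ih' =>
          rw [Finset.sum_insert hj, show sl j (D j) + ∑ l ∈ s', sl l (D l) =
            sl j (D j) - (0 - ∑ l ∈ s', sl l (D l)) by abel, pA_sub, pA_sub, ih' (fun h => h' (Finset.mem_insert_of_mem h)),
            pA_sl_of_ne hJ (fun h : j = i => h' (h ▸ Finset.mem_insert_self j s'))]
          rw [pA_zero]
      rw [pA_insert hi, ih, pA_sub, e s hi, Finset.sum_insert hi, show pA J {i} Y = Y - sl i (D i) by
        rw [← hD]; abel]
      abel
  refine ⟨fun i => (2 : F)⁻¹ • D i, fun i => ?_, ?_⟩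
  · have : adjJ J (D i) = -D i := by rw [hadd, adjJ_adjJ hJT hJ, neg_sub]
    rw [show adjJ J ((2 : F)⁻¹ • D i) = (2 : F)⁻¹ • adjJ J (D i) by simp [adjJ, transpose_smul], this, smul_neg]
  · have hu := hsum Finset.univ
    rw [pA, pT_univ, Finset.piecewise_univ, Finset.piecewise_univ, mul_assoc, hY, mul_neg, ← mul_assoc, tens_mul,
      show ((fun _ : β => J⁻¹) * fun _ => J) = 1 from funext fun _ => nonsing_inv_mul J hJ, tens_one, one_mul] at hu
    simp only [sl_smul, ← Finset.smul_sum]
    rw [show ∑ i, sl i (D i) = Y + Y by rw [eq_sub_iff_add_eq, neg_add_eq_iff_eq_add] at hu; exact hu,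
      ← two_smul F Y, smul_smul, inv_mul_cancel₀ h2, one_smul]

end Cfsg.Agent.ClassicalMax.TPow
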