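import Mathlib

/-!
Tensor powers of matrices: matrices indexed by functions `β → κ`, their splitting along a subset of the slots, slot
matrices, and rank-one operators of a form.
-/

set_option autoImplicit false
set_option linter.unusedSectionVars false

namespace Cfsg.Agent.ClassicalMax.TPow

open Matrix
open scoped Kronecker

variable {F : Type*} [Field F] {α β κ : Type} [Fintype α] [DecidableEq α] [Fintype β] [DecidableEq β] [Fintype κ]
  [DecidableEq κ]

/-- the Kronecker product of a family -/
def tens (T : β → Matrix κ κ F) : Matrix (β → κ) (β → κ) F := Matrix.of fun x y => ∏ j, T j (x j) (y j)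

theorem tens_apply (T : β → Matrix κ κ F) (x y : β → κ) : tens T x y = ∏ j, T j (x j) (y j) := rfl

theorem tens_mul (T U : β → Matrix κ κ F) : tens T * tens U = tens (T * U) := by
  ext x y
  simp only [tens, Matrix.mul_apply, Matrix.of_apply, Pi.mul_apply, ← Finset.prod_mul_distrib]
  exact (Fintype.prod_sum fun j a => T j (x j) a * U j a (y j)).symm

theorem tens_one : tens (1 : β → Matrix κ κ F) = 1 := by
  ext x y
  simp only [tens, Matrix.of_apply, Pi.one_apply, Matrix.one_apply, Finset.prod_boole, funext_iff, Finset.mem_univ,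
    true_imp_iff]

theorem tens_transpose (T : β → Matrix κ κ F) : (tens T)ᵀ = tens fun j => (T j)ᵀ := rfl

theorem tens_update_add (T : β → Matrix κ κ F) (i : β) (A B : Matrix κ κ F) :
    tens (Function.update T i (A + B)) = tens (Function.update T i A) + tens (Function.update T i B) := by
  ext x y
  simp only [Matrix.add_apply, tens_apply]
  simp only [← Finset.mul_prod_erase _ _ (Finset.mem_univ i), Function.update_self, Matrix.add_apply, add_mul]
  congr 1 <;> exact congrArg _ (Finset.prod_congr rfl fun j hj => by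
    simp [Function.update_of_ne (Finset.ne_of_mem_erase hj)])

theorem tens_update_smul (T : β → Matrix κ κ F) (i : β) (c : F) (A : Matrix κ κ F) :
    tens (Function.update T i (c • A)) = c • tens (Function.update T i A) := by
  ext x y
  simp only [Matrix.smul_apply, tens_apply, smul_eq_mul]
  simp only [← Finset.mul_prod_erase _ _ (Finset.mem_univ i), Function.update_self, Matrix.smul_apply, smul_eq_mul,
    mul_assoc]
  exact congrArg _ (congrArg _ (Finset.prod_congr rfl fun j hj => by
    simp [Function.update_of_ne (Finset.ne_of_mem_erase hj)]))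

theorem tens_smul (c : β → F) (T : β → Matrix κ κ F) : tens (fun j => c j • T j) = (∏ j, c j) • tens T := by
  ext x y
  simp [tens_apply, Finset.prod_mul_distrib]

theorem tens_eq_zero_iff {T : β → Matrix κ κ F} : tens T = 0 ↔ ∃ j, T j = 0 := by
  constructor
  · intro h
    by_contra! hne
    have h1 : ∀ j, ∃ p : κ × κ, T j p.1 p.2 ≠ 0 := fun j => by
      by_contra! h0
      exact hne j (Matrix.ext fun a b => h0 (a, b))
    choose p hp using h1
    have := congrFun (congrFun h fun j => (p j).1) fun j => (p j).2
    exact (Finset.prod_ne_zero_iff.2 fun j _ => hp j) this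
  · rintro ⟨j, hj⟩
    ext x y
    exact Finset.prod_eq_zero (Finset.mem_univ j) (by rw [hj]; rfl)

/-! ### slots -/

/-- a matrix in one slot -/
def sl (i : β) (A : Matrix κ κ F) : Matrix (β → κ) (β → κ) F := tens (Function.update 1 i A)

theorem sl_mul (i : β) (A B : Matrix κ κ F) : sl i A * sl i B = sl i (A * B) := by
  rw [sl, sl, sl, tens_mul]
  congr 1
  funext j
  rcases eq_or_ne j i with rfl | h <;> simp [*]

theorem sl_one (i : β) : sl (F := F) (κ := κ) i 1 = 1 := by
  rw [sl, show (1 : Matrix κ κ F) = (1 : β → Matrix κ κ F) i from rfl, Function.update_eq_self, tens_one]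

theorem sl_add (i : β) (A B : Matrix κ κ F) : sl i (A + B) = sl i A + sl i B := tens_update_add _ i A B

theorem sl_smul (i : β) (c : F) (A : Matrix κ κ F) : sl i (c • A) = c • sl i A := tens_update_smul _ i c A

theorem sl_zero (i : β) : sl (F := F) (κ := κ) i 0 = 0 := tens_eq_zero_iff.2 ⟨i, Function.update_self ..⟩

theorem sl_commute {i j : β} (hij : i ≠ j) (A B : Matrix κ κ F) : Commute (sl i A) (sl j B) := by
  show _ = _
  rw [sl, sl, tens_mul, tens_mul]
  congr 1
  funext l
  rcases eq_or_ne l i with rfl | h
  · simp [Function.update_of_ne hij]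
  · simp [Function.update_of_ne h]

theorem sl_commute_of_one {T : β → Matrix κ κ F} {j : β} (h : T j = 1) (A : Matrix κ κ F) :
    Commute (tens T) (sl j A) := by
  show _ = _
  rw [sl, tens_mul, tens_mul]
  congr 1
  funext l
  rcases eq_or_ne l j with rfl | hl <;> simp [*]

theorem sl_apply (i : β) (A : Matrix κ κ F) (x y : β → κ) :
    sl i A x y = if ∀ j, j ≠ i → x j = y j then A (x i) (y i) else 0 := by
  rw [sl, tens_apply, ← Finset.mul_prod_erase _ _ (Finset.mem_univ i), Function.update_self]
  have e : ∀ j ∈ Finset.univ.erase i, (Function.update (1 : β → Matrix κ κ F) i A j) (x j) (y j) =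
      if x j = y j then 1 else 0 := fun j hj => by
    rw [Function.update_of_ne (Finset.ne_of_mem_erase hj), Pi.one_apply, Matrix.one_apply]
  rw [Finset.prod_congr rfl e, Finset.prod_boole]
  simp only [Finset.mem_erase, Finset.mem_univ, and_true, mul_ite, mul_one, mul_zero]

theorem sl_mulVec (i : β) (A : Matrix κ κ F) (M : Matrix (β → κ) (β → κ) F) (x y : β → κ) :
    (sl i A * M) x y = ∑ a, A (x i) a * M (Function.update x i a) y := by
  rw [Matrix.mul_apply]
  refine (Finset.sum_of_injOn (fun a => Function.update x i a) (fun a _ b _ h => ?_) (by simp) (fun z _ hz => ?_)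
    (fun a _ => ?_)).symm
  · simpa using congrFun h i
  · rw [sl_apply, if_neg, zero_mul]
    intro h
    refine hz ⟨z i, by simp, funext fun j => ?_⟩
    rcases eq_or_ne j i with rfl | hj
    · simp
    · simp [hj, h j hj]
  · rw [sl_apply, if_pos fun j hj => by simp [hj], Function.update_self]

theorem mul_sl (i : β) (A : Matrix κ κ F) (M : Matrix (β → κ) (β → κ) F) (x y : β → κ) :
    (M * sl i A) x y = ∑ a, M x (Function.update y i a) * A a (y i) := by
  have h : (sl i A)ᵀ = sl i Aᵀ := by
    rw [sl, sl, tens_transpose]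
    congr 1
    funext j
    rcases eq_or_ne j i with rfl | h <;> simp [*]
  rw [← Matrix.transpose_apply (M * sl i A), Matrix.transpose_mul, h, sl_mulVec]
  exact Finset.sum_congr rfl fun a _ => mul_comm _ _

theorem sl_injective [Nonempty κ] (i : β) : Function.Injective (sl (F := F) (κ := κ) i) := fun A B h => by
  ext a b
  have z : β → κ := fun _ => Classical.arbitrary κ
  have h1 := congrFun (congrFun h (Function.update z i a)) (Function.update z i b)
  rwa [sl_apply, sl_apply, if_pos fun j hj => by simp [hj], if_pos fun j hj => by simp [hj], Function.update_self,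
    Function.update_self] at h1

/-! ### splitting along a map of slots -/

/-- the slots outside a map -/
def Rest (e : α → β) : Type := {j : β // ∀ a, e a ≠ j}

instance (e : α → β) : Fintype (Rest e) := Subtype.fintype _

instance (e : α → β) : DecidableEq (Rest e) := Subtype.instDecidableEq

/-- splitting of indices -/
noncomputable def split {e : α → β} (he : Function.Injective e) : (β → κ) ≃ (α → κ) × (Rest e → κ) where
  toFun x := (x ∘ e, fun j => x j.1)
  invFun p j := if h : ∃ a, e a = j then p.1 h.choose else p.2 ⟨j, not_exists.1 h⟩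
  left_inv x := funext fun j => by
    by_cases h : ∃ a, e a = j
    · simp only [dif_pos h, Function.comp_apply, h.choose_spec]
    · simp only [dif_neg h]
  right_inv p := by
    refine Prod.ext (funext fun a => ?_) (funext fun j => ?_)
    · have h : ∃ a', e a' = e a := ⟨a, rfl⟩
      simp only [Function.comp_apply, dif_pos h, he h.choose_spec]
    · simp only [dif_neg (fun h : ∃ a, e a = j.1 => j.2 _ h.choose_spec)]
      rfl

variable {e : α → β} (he : Function.Injective e)

/-- a matrix on the chosen slots and one on the others -/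
noncomputable def emb (M : Matrix (α → κ) (α → κ) F) (N : Matrix (Rest e → κ) (Rest e → κ) F) :
    Matrix (β → κ) (β → κ) F :=
  (M ⊗ₖ N).submatrix (split he) (split he)

theorem emb_mul (M M' : Matrix (α → κ) (α → κ) F) (N N' : Matrix (Rest e → κ) (Rest e → κ) F) :
    emb he M N * emb he M' N' = emb he (M * M') (N * N') := by
  rw [emb, emb, emb, Matrix.submatrix_mul_equiv, ← Matrix.mul_kronecker_mul]

theorem emb_one : emb (F := F) (κ := κ) he 1 1 = 1 := by
  rw [emb, Matrix.one_kronecker_one, Matrix.submatrix_one_equiv]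

theorem emb_add_left (M M' : Matrix (α → κ) (α → κ) F) (N : Matrix (Rest e → κ) (Rest e → κ) F) :
    emb he (M + M') N = emb he M N + emb he M' N := by
  rw [emb, emb, emb, Matrix.add_kronecker]
  rfl

theorem emb_add_right (M : Matrix (α → κ) (α → κ) F) (N N' : Matrix (Rest e → κ) (Rest e → κ) F) :
    emb he M (N + N') = emb he M N + emb he M N' := by
  rw [emb, emb, emb, Matrix.kronecker_add]
  rfl

theorem emb_smul_left (c : F) (M : Matrix (α → κ) (α → κ) F) (N : Matrix (Rest e → κ) (Rest e → κ) F) :
    emb he (c • M) N = c • emb he M N := by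
  rw [emb, emb, Matrix.smul_kronecker]
  rfl

theorem emb_smul_right (c : F) (M : Matrix (α → κ) (α → κ) F) (N : Matrix (Rest e → κ) (Rest e → κ) F) :
    emb he M (c • N) = c • emb he M N := by
  rw [emb, emb, Matrix.kronecker_smul]
  rfl

theorem emb_zero_left' (N : Matrix (Rest e → κ) (Rest e → κ) F) :
    emb he (0 : Matrix (α → κ) (α → κ) F) N = 0 := by
  rw [← zero_smul F (0 : Matrix (α → κ) (α → κ) F), emb_smul_left, zero_smul]

theorem emb_transpose (M : Matrix (α → κ) (α → κ) F) (N : Matrix (Rest e → κ) (Rest e → κ) F) :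
    (emb he M N)ᵀ = emb he Mᵀ Nᵀ := by
  rw [emb, emb, Matrix.transpose_submatrix, Matrix.kroneckerMap_transpose]

include he in
theorem prod_split (f : β → F) : ∏ j, f j = (∏ a, f (e a)) * ∏ j : Rest e, f j.1 := by
  classical
  rw [← Finset.prod_mul_prod_compl (Finset.univ.map ⟨e, he⟩) f, Finset.prod_map]
  congr 1
  refine Finset.prod_subtype _ (fun j => ?_) f
  simp

theorem emb_tens (T : β → Matrix κ κ F) : emb he (tens (T ∘ e)) (tens fun j : Rest e => T j.1) = tens T := by
  ext x y
  rw [emb, Matrix.submatrix_apply, Matrix.kronecker_apply, tens_apply, tens_apply, tens_apply]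
  exact (prod_split he fun j => T j (x j) (y j)).symm

/-! ### rank-one operators of a form -/

section Rank

variable {ν : Type} [Fintype ν] [DecidableEq ν] (G : Matrix ν ν F)

/-- the form -/
def bf (u v : ν → F) : F := u ⬝ᵥ G *ᵥ v

/-- the operator `x ↦ b(v, x) u` -/
def rk (u v : ν → F) : Matrix ν ν F := vecMulVec u (v ᵥ* G)

theorem rk_mulVec (u v x : ν → F) : rk G u v *ᵥ x = bf G v x • u := by
  rw [rk, vecMulVec_mulVec, op_smul_eq_smul, bf, dotProduct_mulVec]

theorem mul_rk (M : Matrix ν ν F) (u v : ν → F) : M * rk G u v = rk G (M *ᵥ u) v := by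
  rw [rk, rk, mul_vecMulVec]

theorem rk_mul_rk (u v w z : ν → F) : rk G u v * rk G w z = bf G v w • rk G u z := by
  rw [mul_rk, rk_mulVec, rk, rk, smul_vecMulVec]

theorem rk_add_left (u u' v : ν → F) : rk G (u + u') v = rk G u v + rk G u' v := by
  rw [rk, rk, rk, add_vecMulVec]

theorem rk_add_right (u v v' : ν → F) : rk G u (v + v') = rk G u v + rk G u v' := by
  rw [rk, rk, rk, add_vecMul, vecMulVec_add]

theorem rk_smul_left (c : F) (u v : ν → F) : rk G (c • u) v = c • rk G u v := by
  rw [rk, rk, smul_vecMulVec]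

theorem rk_smul_right (c : F) (u v : ν → F) : rk G u (c • v) = c • rk G u v := by
  rw [rk, rk, smul_vecMul, vecMulVec_smul]

theorem bf_add_left (u u' v : ν → F) : bf G (u + u') v = bf G u v + bf G u' v := by
  rw [bf, bf, bf, add_dotProduct]

theorem bf_add_right (u v v' : ν → F) : bf G u (v + v') = bf G u v + bf G u v' := by
  rw [bf, bf, bf, mulVec_add, dotProduct_add]

theorem bf_smul_left (c : F) (u v : ν → F) : bf G (c • u) v = c * bf G u v := by
  rw [bf, bf, smul_dotProduct, smul_eq_mul]

theorem bf_smul_right (c : F) (u v : ν → F) : bf G u (c • v) = c * bf G u v := by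
  rw [bf, bf, mulVec_smul, dotProduct_smul, smul_eq_mul]

theorem bf_swap {ε : F} (hG : Gᵀ = ε • G) (u v : ν → F) : bf G u v = ε * bf G v u := by
  rw [bf, bf, ← smul_eq_mul ε, ← dotProduct_smul, ← smul_mulVec, ← hG, mulVec_transpose,
    dotProduct_mulVec, dotProduct_comm]

theorem rk_transpose {ε : F} (hG : Gᵀ = ε • G) (u v : ν → F) : (rk G u v)ᵀ * G = ε • (G * rk G v u) := by
  rw [rk, rk, transpose_vecMulVec, vecMulVec_mul, mul_vecMulVec, ← smul_vecMulVec, ← smul_mulVec, ← hG,
    mulVec_transpose]

theorem exists_bf_ne (hG : IsUnit G.det) {u : ν → F} (hu : u ≠ 0) : ∃ v, bf G u v ≠ 0 := by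
  by_contra! h
  have h1 : u ᵥ* G = 0 := funext fun j => by
    have := h (Pi.single j 1)
    rwa [bf, dotProduct_mulVec, dotProduct_single_one] at this
  exact hu (Matrix.vecMul_injective_of_isUnit ((isUnit_iff_isUnit_det G).2 hG) (h1.trans (zero_vecMul G).symm))

theorem rk_eq_zero (hG : IsUnit G.det) {u v : ν → F} (hu : u ≠ 0) (hv : v ≠ 0) : rk G u v ≠ 0 := fun h => by
  obtain ⟨x, hx⟩ := exists_bf_ne G hG hv
  have h1 := congrArg (· *ᵥ x) h
  rw [rk_mulVec, zero_mulVec, smul_eq_zero] at h1
  exact h1.elim hx hu

end Rank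

end Cfsg.Agent.ClassicalMax.TPow
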